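import Cfsg.Agent.AltFus.Normalizer
import Cfsg.Agent.Fusion.PGroup

/-!
A nontrivial subgroup of a wreathed Sylow subgroup, closed under fusion in the alternating group, is the
whole of its even part.
-/

set_option autoImplicit false

namespace Cfsg.Agent.AltFus

open Equiv GroupSub.AffWreath

variable {p : ℕ} [hp : Fact p.Prime] {I J : Type*} [Fintype I] [DecidableEq I] [Fintype J] [DecidableEq J]

local notation "Pt" => ((I × ZMod p) ⊕ J)

theorem cycleType_of_pow_p {α : Type*} [Fintype α] [DecidableEq α] {x : Perm α} (h : x ^ p = 1) :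
    x.cycleType = Multiset.replicate x.cycleType.card p ∧ x.cycleType.card * p = x.support.card := by
  have hp' := hp.out
  have h1 : ∀ a ∈ x.cycleType, a = p := fun a ha => by
    have h2 := Perm.two_le_of_mem_cycleType ha
    rcases (Nat.dvd_prime hp').1 ((Perm.dvd_of_mem_cycleType ha).trans (orderOf_dvd_of_pow_eq_one h)) with e | e
    · omega
    · exact e
  have h3 := Multiset.eq_replicate_card.2 h1
  refine ⟨h3, ?_⟩
  rw [← Perm.sum_cycleType, h3, Multiset.sum_replicate, Multiset.card_replicate, smul_eq_mul]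

/-- Two elements of order dividing `p` with supports of equal size are conjugate. -/
theorem exists_conj {α : Type*} [Fintype α] [DecidableEq α] {x y : Perm α} (hx : x ^ p = 1) (hy : y ^ p = 1)
    (hc : x.support.card = y.support.card) : ∃ g, g * x * g⁻¹ = y := by
  obtain ⟨h1, h2⟩ := cycleType_of_pow_p hx
  obtain ⟨h3, h4⟩ := cycleType_of_pow_p hy
  refine isConj_iff.1 (Perm.isConj_iff_cycleType_eq.2 ?_)
  rw [h1, h3, Nat.eq_of_mul_eq_mul_right hp.out.pos (h2.trans (hc.trans h4.symm))]

theorem sign_affine_two (c : ZMod 2) :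
    Perm.sign (affine (1 : (ZMod 2)ˣ) c) = if c = 0 then 1 else -1 := by
  rcases (show ∀ c : ZMod 2, c = 0 ∨ c = 1 by decide) c with rfl | rfl
  · rw [show affine (1 : (ZMod 2)ˣ) 0 = 1 from Equiv.ext fun b => by simp [affine_apply]]
    simp
  · rw [show affine (1 : (ZMod 2)ˣ) 1 = Equiv.swap 0 1 from Equiv.ext fun b => by
      rcases (show ∀ c : ZMod 2, c = 0 ∨ c = 1 by decide) b with rfl | rfl
      · simp [affine_apply]
      · simp [affine_apply]; decide]
    rw [Perm.sign_swap (by decide), if_neg (by decide)]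

theorem sgn_sum_two (f : I → ZMod 2) (s : Finset I) :
    (∏ i ∈ s, if f i = 0 then (1 : ℤˣ) else -1) = if (∑ i ∈ s, f i) = 0 then 1 else -1 := by
  induction s using Finset.induction with
  | empty => simp
  | insert a s ha ih =>
    rw [Finset.prod_insert ha, Finset.sum_insert ha, ih]
    generalize f a = x
    generalize ∑ i ∈ s, f i = y
    revert x y
    decide

omit hp in
theorem sign_tr_two (f : I → ZMod 2) :
    Perm.sign (tr f : Perm ((I × ZMod 2) ⊕ J)) = if ∑ i, f i = 0 then 1 else -1 := by
  rw [show (tr f : Perm ((I × ZMod 2) ⊕ J)) = gaff 1 1 f from rfl, sign_gaff_one]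
  simp only [Pi.one_apply, sign_affine_two, sgn_sum_two]

omit hp in
theorem sum_of_even (f : I → ZMod 2) (h : Perm.sign (tr f : Perm ((I × ZMod 2) ⊕ J)) = 1) :
    ∑ i, f i = 0 := by
  rw [sign_tr_two] at h
  by_contra hne
  rw [if_neg hne] at h
  exact absurd h (by decide)

omit hp in
theorem sign_bp_two (σ : Perm I) : Perm.sign (bp σ : Perm ((I × ZMod 2) ⊕ J)) = 1 := by
  rw [sign_bp, Int.units_sq]

theorem zmod2_one_add : (1 : ZMod 2) + 1 = 0 := by decide

theorem zmod2_id : ∀ u v : ZMod 2, 1 - (u + v) + 1 = u + v := by decide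

theorem zmod2_cases : ∀ c : ZMod 2, c = 0 ∨ c = 1 := by decide

theorem zmod2_one : ∀ c : ZMod 2, c ≠ 0 → c = 1 := by decide

theorem zmod2_add_self : ∀ c : ZMod 2, c + c = 0 := by decide

theorem sign_tr_odd (hodd : Odd p) (f : I → ZMod p) : Perm.sign (tr f : Perm Pt) = 1 :=
  sign_of_pow hodd (k := 1) (by rw [pow_one, tr_pow_p])

theorem sign_gaff_pair {i j : I} (hij : i ≠ j) :
    Perm.sign (gaff (1 : Perm I) (Pi.mulSingle i (-1) * Pi.mulSingle j (-1) : I → (ZMod p)ˣ) 0 : Perm Pt) = 1 := by
  rw [sign_gaff_one, ← Finset.prod_subset (Finset.subset_univ ({i, j} : Finset I)) (fun k _ hk => by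
    simp only [Finset.mem_insert, Finset.mem_singleton, not_or] at hk
    rw [Pi.mul_apply, Pi.mulSingle_eq_of_ne hk.1, Pi.mulSingle_eq_of_ne hk.2, one_mul]
    rw [show affine (1 : (ZMod p)ˣ) ((0 : I → ZMod p) k) = 1 from Equiv.ext fun b => by simp [affine_apply]]
    simp), Finset.prod_pair hij]
  simp only [Pi.mul_apply, Pi.mulSingle_eq_same, Pi.mulSingle_eq_of_ne hij, Pi.mulSingle_eq_of_ne hij.symm,
    mul_one, one_mul, Pi.zero_apply, Int.units_mul_self]

theorem tr_mem_wr (P : Subgroup (Perm I)) (f : I → ZMod p) : (tr f : Perm Pt) ∈ wr P := ⟨1, P.one_mem, f, rfl⟩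

/-- The strongly closed subgroups. -/
theorem even_part_le [Subsingleton J] (hI : 3 ≤ Fintype.card I) (hJ : Fintype.card J < p)
    {P : Subgroup (Perm I)} (hPp : IsPGroup p P) (hgen : P ≤ Subgroup.closure {x | x ∈ P ∧ x ^ p = 1})
    (hsw : p = 2 → ∃ i j : I, i ≠ j ∧ Equiv.swap i j ∈ P)
    {T : Subgroup (Perm Pt)} (hTW : T ≤ wr P ⊓ alternatingGroup Pt) (hT : T ≠ ⊥)
    (hcl : ∀ x ∈ T, ∀ g : Perm Pt, Perm.sign g = 1 → g * x * g⁻¹ ∈ wr P → g * x * g⁻¹ ∈ T) :
    wr P ⊓ alternatingGroup Pt ≤ T := by
  have hp' := hp.out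
  have hp2 := hp'.two_le
  have third : ∀ i j : I, ∃ l, l ≠ i ∧ l ≠ j := by
    intro i j
    obtain ⟨l, -, hl⟩ : ∃ l ∈ (Finset.univ : Finset I), l ∉ ({i, j} : Finset I) :=
      Finset.exists_mem_notMem_of_card_lt_card (by
        rw [Finset.card_univ]
        exact lt_of_le_of_lt Finset.card_le_two hI)
    simp only [Finset.mem_insert, Finset.mem_singleton, not_or] at hl
    exact ⟨l, hl⟩
  have hev : ∀ {x : Perm Pt}, x ∈ T → Perm.sign x = 1 := fun hx => Perm.mem_alternatingGroup.1 (hTW hx).2
  -- conjugating translations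
  have hconj : ∀ f : I → ZMod p, tr f ∈ T → ∀ (σ : Perm I) (t : I → (ZMod p)ˣ),
      Perm.sign (gaff σ t 0 : Perm Pt) = 1 → tr (fun i => (t (σ⁻¹ i) : ZMod p) * f (σ⁻¹ i)) ∈ T := by
    intro f hf σ t hs
    have h := hcl _ hf (gaff σ t 0) hs (by rw [gaff_conj_tr]; exact tr_mem_wr P _)
    rwa [gaff_conj_tr] at h
  have hdiff : ∀ f g : I → ZMod p, tr f ∈ T → tr g ∈ T → tr (f - g) ∈ T := fun f g hf hg => by
    rw [sub_eq_add_neg, ← tr_mul, ← tr_inv]
    exact T.mul_mem hf (T.inv_mem hg)
  -- a central translation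
  obtain ⟨f₀, hf₀, hf₀T⟩ : ∃ f : I → ZMod p, f ≠ 0 ∧ tr f ∈ T := by
    set W := wr P ⊓ alternatingGroup Pt with hW
    have hWp : IsPGroup p W := by
      refine IsPGroup.to_le (?_ : IsPGroup p (wr P : Subgroup (Perm Pt))) inf_le_left
      obtain ⟨k, hk⟩ := IsPGroup.iff_card.1 hPp
      refine IsPGroup.of_card (n := k + Nat.card I) ?_
      rw [card_wr, hk, pow_add]
    haveI : (T.subgroupOf W).Normal := ⟨fun x hx g => by
      rw [Subgroup.mem_subgroupOf] at hx ⊢
      exact hcl _ hx g (Perm.mem_alternatingGroup.1 g.2.2)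
        ((wr P).mul_mem ((wr P).mul_mem g.2.1 (hTW hx).1) ((wr P).inv_mem g.2.1))⟩
    have hne : T.subgroupOf W ≠ ⊥ := fun h => by
      rw [Subgroup.subgroupOf_eq_bot, disjoint_iff, inf_eq_left.2 hTW] at h
      exact hT h
    obtain ⟨⟨x, hxW⟩, ⟨hxT, hxC⟩, hx1⟩ :=
      (Subgroup.bot_or_exists_ne_one _).resolve_left (Fusion.pGroup_inf_center_ne_bot hWp _ hne)
    obtain ⟨σ, -, f, hxe⟩ := hxW.1
    have hσ : σ = 1 := by
      refine Equiv.ext fun i => by_contra fun hi => ?_
      obtain ⟨j, hj1, hj2⟩ := third i (σ i)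
      set h : I → ZMod p := Pi.single i 1 - Pi.single j 1 with hh
      have hhs : Perm.sign (tr h : Perm Pt) = 1 := by
        rcases hp'.eq_two_or_odd' with h2 | hodd
        · subst h2
          rw [sign_tr_two, if_pos]
          simp [hh]
        · exact sign_tr_odd hodd h
      have hc := congrArg Subtype.val (Subgroup.mem_center_iff.1 hxC ⟨tr h, tr_mem_wr P h,
        Perm.mem_alternatingGroup.2 hhs⟩)
      change tr h * x = x * tr h at hc
      have h' : x * tr h * x⁻¹ = tr h := by rw [← hc, mul_inv_cancel_right]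
      rw [hxe, gaff_conj_tr] at h'
      obtain ⟨-, -, h''⟩ := gaff_inj (J := J) h'
      have := congrFun h'' (σ i)
      simp [hh, Pi.single_apply, hi, Ne.symm hj1, Ne.symm hj2] at this <;> exact hi this
    subst hσ
    refine ⟨f, fun h => hx1 (Subtype.ext ?_), ?_⟩
    · show x = 1
      rw [hxe, h]; exact gaff_one
    · have h' : x ∈ T := hxT
      rw [hxe] at h'; exact h'
  obtain ⟨i₀, hi₀⟩ := Function.ne_iff.1 hf₀
  -- all even translations
  have htr : ∀ f : I → ZMod p, Perm.sign (tr f : Perm Pt) = 1 → tr f ∈ T := by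
    rcases hp'.eq_two_or_odd' with h2 | hodd
    · subst h2
      haveI : Fact (Nat.Prime 2) := ⟨Nat.prime_two⟩
      have h01 := zmod2_one
      have hswapσ : ∀ a b : I, Perm.sign (bp (Equiv.swap a b) : Perm ((I × ZMod 2) ⊕ J)) = 1 := fun a b => sign_bp_two _
      have hpair : ∃ a b : I, a ≠ b ∧ tr (Pi.single a 1 + Pi.single b 1) ∈ T := by
        by_cases hall : ∃ j, f₀ j = 0
        · obtain ⟨j, hj⟩ := hall
          have hij : i₀ ≠ j := fun e => hi₀ (e ▸ hj)
          refine ⟨i₀, j, hij, ?_⟩
          have h := hdiff _ _ hf₀T (hconj f₀ hf₀T (Equiv.swap i₀ j) 1 (hswapσ _ _))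
          convert h using 2
          funext k
          by_cases hk : k = i₀
          · subst hk; simp [hij, hj, h01 _ hi₀]
          · by_cases hk' : k = j
            · subst hk'; simp [Ne.symm hij, hj, h01 _ hi₀]
            · simp [hk, hk', Equiv.swap_apply_of_ne_of_ne hk hk']
        · have hall' : ∀ k, f₀ k = 1 := fun k => h01 _ fun e => hall ⟨k, e⟩
          obtain ⟨a, b, hab, habP⟩ := hsw rfl
          obtain ⟨l, hla, hlb⟩ := third a b
          refine ⟨a, b, hab, ?_⟩
          set e₂ : I → ZMod 2 := Pi.single a 1 + Pi.single b 1 with he₂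
          set x : Perm ((I × ZMod 2) ⊕ J) := bp (Equiv.swap a b) * tr (f₀ - e₂) with hx
          have hxW : x ∈ wr P := ⟨_, habP, _, (gaff_eq_bp_tr _ _).symm⟩
          have hsum := sum_of_even f₀ (hev hf₀T)
          have hxs : Perm.sign x = 1 := by
            rw [hx, map_mul, hswapσ, one_mul, sign_tr_two, if_pos]
            simp [he₂, Finset.sum_add_distrib, hsum, zmod2_one_add]
          have hxx : x ^ 2 = 1 := by
            rw [pow_two, hx, bp, tr, gaff_mul, gaff_mul, ← gaff_one]
            congr 1
            · ext k; simp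
            · funext k
              by_cases hk : k = a
              · subst hk; simp [he₂, hall', hab, Ne.symm hab]
              · by_cases hk' : k = b
                · subst hk'; simp [he₂, hall', hab, Ne.symm hab]
                · simp [he₂, hall', hk, hk', Equiv.swap_apply_of_ne_of_ne hk hk']
                  decide
          have hfix : ∀ (y : (I × ZMod 2) ⊕ J), (∀ j, y ≠ Sum.inr j) → x y ≠ y := by
            intro y hy
            rcases y with ⟨k, c⟩ | j
            · rw [hx, ← gaff_eq_bp_tr, gaff_inl]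
              intro e
              simp only [Sum.inl.injEq, Prod.mk.injEq, Pi.one_apply, Units.val_one, one_mul] at e
              have hk1 : k ≠ a := fun h => by subst h; simp [hab.symm] at e
              have hk2 : k ≠ b := fun h => by subst h; simp [hab] at e
              simp [he₂, hall', hk1, hk2] at e
            · exact absurd rfl (hy j)
          have hzfix : ∀ (y : (I × ZMod 2) ⊕ J), (∀ j, y ≠ Sum.inr j) → (tr f₀ : Perm ((I × ZMod 2) ⊕ J)) y ≠ y := by
            intro y hy
            rcases y with ⟨k, c⟩ | j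
            · rw [tr, gaff_inl]; simp [hall']
            · exact absurd rfl (hy j)
          have hsupp : x.support = (tr f₀ : Perm ((I × ZMod 2) ⊕ J)).support := by
            ext y
            rw [Perm.mem_support, Perm.mem_support]
            rcases y with ⟨k, c⟩ | j
            · exact iff_of_true (hfix _ (by simp)) (hzfix _ (by simp))
            · simp [hx, bp, tr]
          obtain ⟨g, hg⟩ := exists_conj (tr_pow_p f₀) hxx (congrArg Finset.card hsupp).symm
          set τ : Perm ((I × ZMod 2) ⊕ J) := tr (Pi.single a 1) with hτ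
          have hτs : Perm.sign τ = -1 := by
            rw [hτ, sign_tr_two, if_neg]; simp
          have hτc : τ * tr f₀ * τ⁻¹ = tr f₀ := by
            rw [hτ, tr_mul, add_comm, ← tr_mul, mul_inv_cancel_right]
          have hxT : x ∈ T := by
            rcases Int.units_eq_one_or (Perm.sign g) with hs | hs
            · rw [← hg]; exact hcl _ hf₀T g hs (hg ▸ hxW)
            · have e : g * τ * tr f₀ * (g * τ)⁻¹ = x := by
                rw [show g * τ * tr f₀ * (g * τ)⁻¹ = g * (τ * tr f₀ * τ⁻¹) * g⁻¹ by group, hτc, hg]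
              rw [← e]
              exact hcl _ hf₀T _ (by rw [map_mul, hs, hτs]; rfl) (e ▸ hxW)
          set y : Perm ((I × ZMod 2) ⊕ J) := x * tr f₀ with hy
          have hye : y = bp (Equiv.swap a b) * tr e₂ := by
            rw [hy, hx, mul_assoc, tr_mul]
            congr 2
            funext k
            simp [he₂, hall']
            generalize (Pi.single a (1 : ZMod 2) : I → ZMod 2) k = u
            generalize (Pi.single b (1 : ZMod 2) : I → ZMod 2) k = v
            exact zmod2_id u v
          have hyy : y ^ 2 = 1 := by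
            rw [hye, pow_two, bp, tr, gaff_mul, gaff_mul, ← gaff_one]
            congr 1
            · ext k; simp
            · funext k
              by_cases hk : k = a
              · subst hk; simp [he₂, hab, Ne.symm hab]; decide
              · by_cases hk' : k = b
                · subst hk'; simp [he₂, hab, Ne.symm hab]; decide
                · simp [he₂, hk, hk', Equiv.swap_apply_of_ne_of_ne hk hk']
          have hys : y.support = (tr e₂ : Perm ((I × ZMod 2) ⊕ J)).support := by
            ext v
            rw [Perm.mem_support, Perm.mem_support]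
            rcases v with ⟨k, c⟩ | j
            · rw [hye, ← gaff_eq_bp_tr, gaff_inl, tr, gaff_inl]
              by_cases hk : k = a
              · subst hk; simp [he₂, hab, Ne.symm hab]
              · by_cases hk' : k = b
                · subst hk'; simp [he₂, hab, Ne.symm hab]
                · simp [he₂, hk, hk', Equiv.swap_apply_of_ne_of_ne hk hk']
            · simp [hye, bp, tr]
          obtain ⟨g₂, hg₂⟩ := exists_conj hyy (tr_pow_p e₂) (congrArg Finset.card hys)
          have hyT : y ∈ T := T.mul_mem hxT hf₀T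
          rcases Int.units_eq_one_or (Perm.sign g₂) with hs | hs
          · rw [← hg₂]; exact hcl _ hyT g₂ hs (hg₂ ▸ tr_mem_wr P _)
          · have e : τ * g₂ * y * (τ * g₂)⁻¹ = tr e₂ := by
              rw [show τ * g₂ * y * (τ * g₂)⁻¹ = τ * (g₂ * y * g₂⁻¹) * τ⁻¹ by group, hg₂, hτ, tr_mul, add_comm,
                ← tr_mul, mul_inv_cancel_right]
            rw [← e]
            exact hcl _ hyT _ (by rw [map_mul, hs, hτs]; rfl) (e ▸ tr_mem_wr P _)
      obtain ⟨a, b, hab, hT2⟩ := hpair
      have hall : ∀ c d : I, c ≠ d → tr (Pi.single c 1 + Pi.single d 1) ∈ T := by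
        intro c d hcd
        -- move `a` to `c`, then the image of `b` to `d`
        set σ₁ := Equiv.swap a c
        set σ := Equiv.swap (σ₁ b) d * σ₁ with hσ
        have hσa : σ a = c := by
          rw [hσ, Perm.mul_apply, Equiv.swap_apply_left, Equiv.swap_apply_of_ne_of_ne]
          · intro e
            exact hab (σ₁.injective ((Equiv.swap_apply_left a c).trans e))
          · exact hcd
        have hσb : σ b = d := by rw [hσ, Perm.mul_apply, Equiv.swap_apply_left]
        have h := hconj _ hT2 σ 1 (sign_bp_two σ)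
        convert h using 2
        funext k
        have e : ∀ v, σ⁻¹ k = v ↔ k = σ v := fun v => Perm.inv_eq_iff_eq
        simp only [Pi.one_apply, Units.val_one, one_mul, Pi.add_apply, Pi.single_apply, e, hσa, hσb]
      intro f hf
      have hsum := sum_of_even f hf
      obtain ⟨l, -, -⟩ := third i₀ i₀
      suffices h : ∀ s : Finset I, tr ((∑ i ∈ s, Pi.single i (f i)) + Pi.single l (∑ i ∈ s, f i)) ∈ T by
        have h' := h Finset.univ
        rwa [hsum, Pi.single_zero, add_zero, Finset.univ_sum_single] at h'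
      intro s
      induction s using Finset.induction with
      | empty => simp [tr_zero, T.one_mem]
      | insert c s hc ih =>
        rw [Finset.sum_insert hc, Finset.sum_insert hc, Pi.single_add, add_add_add_comm, ← tr_mul]
        refine T.mul_mem ?_ ih
        rcases zmod2_cases (f c) with e | e
        · rw [e, Pi.single_zero, Pi.single_zero, add_zero, tr_zero]; exact T.one_mem
        · rw [e]
          by_cases hcl' : c = l
          · subst hcl'
            rw [← Pi.single_add, zmod2_add_self, Pi.single_zero, tr_zero]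
            exact T.one_mem
          · exact hall c l hcl'
    · have h2 : (2 : ZMod p) ≠ 0 := fun e => by
        have h' : ((2 : ℕ) : ZMod p) = 0 := by exact_mod_cast e
        rw [ZMod.natCast_eq_zero_iff] at h'
        have := Nat.le_of_dvd two_pos h'
        rcases hodd with ⟨k, hk⟩
        omega
      have hflip : ∀ f : I → ZMod p, tr f ∈ T → ∀ i j : I, i ≠ j →
          tr (Pi.single i (2 * f i) + Pi.single j (2 * f j)) ∈ T := by
        intro f hf i j hij
        have h := hdiff _ _ hf (hconj f hf 1 (Pi.mulSingle i (-1) * Pi.mulSingle j (-1)) (sign_gaff_pair hij))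
        convert h using 2
        funext k
        by_cases hk : k = i
        · subst hk; simp [hij, Ne.symm hij]; ring
        · by_cases hk' : k = j
          · subst hk'; simp [hij, Ne.symm hij]; ring
          · simp [hk, hk']
      obtain ⟨j, hj, -⟩ := third i₀ i₀
      obtain ⟨l, hl1, hl2⟩ := third i₀ j
      have h1 := hflip _ hf₀T i₀ j hj.symm
      have h2' := hflip _ h1 i₀ l hl1.symm
      simp [hl1, hl2, Ne.symm hl1, hj, Ne.symm hj] at h2'
      set c := (2 : ZMod p) * (2 * f₀ i₀) with hc
      have hc0 : c ≠ 0 := mul_ne_zero h2 (mul_ne_zero h2 hi₀)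
      have hsingle : ∀ k : I, ∀ r : ZMod p, tr (Pi.single k r) ∈ T := by
        intro k r
        have hk : tr (Pi.single k c) ∈ T := by
          by_cases hki : k = i₀
          · rw [hki]; exact h2'
          · obtain ⟨m, hm1, hm2⟩ := third i₀ k
            set σ := Equiv.swap i₀ k * Equiv.swap k m with hσ
            have hσi : σ i₀ = k := by
              rw [hσ, Perm.mul_apply, Equiv.swap_apply_of_ne_of_ne (Ne.symm hki) hm1.symm, Equiv.swap_apply_left]
            have hs : Perm.sign (bp σ : Perm Pt) = 1 := by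
              rw [sign_bp, hσ, Perm.sign_mul, Perm.sign_swap (Ne.symm hki), Perm.sign_swap hm2.symm]
              simp
            have h := hconj _ h2' σ 1 hs
            convert h using 2
            funext v
            have e : σ⁻¹ v = i₀ ↔ v = k := by rw [Perm.inv_eq_iff_eq, hσi]
            simp only [Pi.one_apply, Units.val_one, one_mul, Pi.single_apply, e]
        have h := T.pow_mem hk (r / c).val
        rw [tr_pow] at h
        convert h using 2
        funext v
        by_cases hv : v = k
        · subst hv; simp [div_mul_cancel₀ _ hc0]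
        · simp [Pi.single_eq_of_ne hv]
      intro f _
      suffices h : ∀ s : Finset I, tr (∑ i ∈ s, Pi.single i (f i)) ∈ T by
        have h' := h Finset.univ
        rwa [Finset.univ_sum_single] at h'
      intro s
      induction s using Finset.induction with
      | empty => simp [tr_zero, T.one_mem]
      | insert a s ha ih =>
        rw [Finset.sum_insert ha, ← tr_mul]
        exact T.mul_mem (hsingle a (f a)) ih
  -- all elements of order p
  have hordp : ∀ x ∈ wr P ⊓ alternatingGroup Pt, x ^ p = 1 → x ∈ T := by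
    intro x hx hxp
    obtain ⟨-, hk⟩ := cycleType_of_pow_p hxp
    set k := x.cycleType.card
    have hkI : k ≤ Fintype.card I := by
      have h : k * p ≤ Fintype.card I * p + Fintype.card J := by
        rw [hk]
        refine (Finset.card_le_univ _).trans (le_of_eq ?_)
        rw [Fintype.card_sum, Fintype.card_prod, ZMod.card]
      by_contra hlt
      have : (Fintype.card I + 1) * p ≤ k * p := Nat.mul_le_mul_right p (by omega)
      rw [add_mul, one_mul] at this
      omega
    obtain ⟨A, -, hA⟩ := Finset.exists_subset_card_eq (n := k) (s := (Finset.univ : Finset I)) (by rw [Finset.card_univ]; exact hkI)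
    set f : I → ZMod p := fun i => if i ∈ A then 1 else 0 with hf
    have hc : x.support.card = (tr f : Perm Pt).support.card := by
      rw [← hk, card_support_tr]
      congr 1
      rw [← hA]
      congr 1
      ext i
      by_cases hi : i ∈ A <;> simp [hf, hi]
    obtain ⟨g, hg⟩ := exists_conj hxp (tr_pow_p f) hc
    have hfs : Perm.sign (tr f : Perm Pt) = 1 := by
      rw [← hg, map_mul, map_mul, Perm.mem_alternatingGroup.1 hx.2, mul_one, ← map_mul, mul_inv_cancel, map_one]
    have main : ∀ (g : Perm Pt) (h : I → ZMod p), Perm.sign g = 1 → g * x * g⁻¹ = tr h →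
        Perm.sign (tr h : Perm Pt) = 1 → x ∈ T := by
      intro g h hs e hh
      have hmem := hcl _ (htr h hh) g⁻¹ (by rw [map_inv, hs, inv_one]) (by
        rw [← e, show g⁻¹ * (g * x * g⁻¹) * g⁻¹⁻¹ = x by group]; exact hx.1)
      rwa [← e, show g⁻¹ * (g * x * g⁻¹) * g⁻¹⁻¹ = x by group] at hmem
    rcases Int.units_eq_one_or (Perm.sign g) with hs | hs
    · exact main g f hs hg hfs
    · obtain ⟨j, hj, -⟩ := third i₀ i₀
      rcases hp'.eq_two_or_odd' with h2 | hodd
      · subst h2
        refine main (tr (Pi.single i₀ 1) * g) f ?_ ?_ hfs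
        · rw [map_mul, hs, sign_tr_two, if_neg]
          · rfl
          · simp
        · rw [show tr (Pi.single i₀ 1) * g * x * (tr (Pi.single i₀ 1) * g)⁻¹ =
            tr (Pi.single i₀ 1) * (g * x * g⁻¹) * (tr (Pi.single i₀ 1))⁻¹ by group, hg, tr_mul, add_comm,
            ← tr_mul, mul_inv_cancel_right]
      · have hsb : Perm.sign (bp (Equiv.swap i₀ j) : Perm Pt) = -1 := by
          rw [sign_bp, Perm.sign_swap hj.symm]
          exact hodd.neg_one_pow
        refine main (bp (Equiv.swap i₀ j) * g)
          (fun i => (((1 : I → (ZMod p)ˣ) ((Equiv.swap i₀ j)⁻¹ i) : (ZMod p)ˣ) : ZMod p) * f ((Equiv.swap i₀ j)⁻¹ i))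
          (by rw [map_mul, hs, hsb]; rfl) ?_ (sign_tr_odd hodd _)
        rw [show bp (Equiv.swap i₀ j) * g * x * (bp (Equiv.swap i₀ j) * g)⁻¹ =
          bp (Equiv.swap i₀ j) * (g * x * g⁻¹) * (bp (Equiv.swap i₀ j))⁻¹ by group, hg, bp, gaff_conj_tr]
  -- everything
  rintro _ ⟨⟨σ, hσ, f, rfl⟩, hs⟩
  have hbs : ∀ τ ∈ P, Perm.sign (bp τ : Perm Pt) = 1 := by
    intro τ hτ
    rw [sign_bp]
    rcases hp'.eq_two_or_odd' with h2 | hodd
    · subst h2; exact Int.units_sq _
    · obtain ⟨k, hk⟩ := hPp ⟨τ, hτ⟩
      rw [sign_of_pow hodd (show τ ^ p ^ k = 1 from congrArg Subtype.val hk), one_pow]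
  have hbT : (bp σ : Perm Pt) ∈ T := by
    have h : P ≤ T.comap bpHom := hgen.trans ((Subgroup.closure_le _).2 fun τ hτ =>
      hordp (bp τ) ⟨⟨τ, hτ.1, 0, rfl⟩, Perm.mem_alternatingGroup.2 (hbs τ hτ.1)⟩
        (by rw [← bp_pow, hτ.2]; exact map_one bpHom))
    exact h hσ
  rw [gaff_eq_bp_tr]
  refine T.mul_mem hbT (htr f ?_)
  have h' := Perm.mem_alternatingGroup.1 hs
  rwa [gaff_eq_bp_tr, map_mul, hbs σ hσ, one_mul] at h'

end Cfsg.Agent.AltFus
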