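import Cfsg.Agent.AltFus.Normalizer

/-!
The regular elementary abelian subgroup on super-blocks and a torus element in the group generated by the
`p`-elements of its normaliser.
-/

set_option autoImplicit false

namespace Cfsg.Agent.AltFus

open Equiv GroupSub.AffWreath

attribute [-simp] Units.val_inv_eq_inv_val

variable {p : ℕ} [Fact p.Prime] {K L J : Type*}

local notation "Z2" => (ZMod p × ZMod p)
local notation "Pt" => (((((K × ZMod p) ⊕ L)) × ZMod p) ⊕ J)

/-- The map applying `ψ s` to the super-block `s`. -/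
def supFun (ψ : K → Perm Z2) : Pt → Pt
  | Sum.inl (Sum.inl (s, a), b) => Sum.inl (Sum.inl (s, (ψ s (a, b)).1), (ψ s (a, b)).2)
  | x => x

theorem supFun_inv (ψ : K → Perm Z2) (x : Pt) : supFun (fun s => (ψ s)⁻¹) (supFun ψ x) = x := by
  rcases x with ⟨(⟨s, a⟩ | l), b⟩ | j
  · simp [supFun]
  · rfl
  · rfl

/-- The permutation applying `ψ s` to the super-block `s`. -/
def sup2 (ψ : K → Perm Z2) : Perm Pt where
  toFun := supFun ψ
  invFun := supFun fun s => (ψ s)⁻¹
  left_inv := supFun_inv ψ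
  right_inv x := by
    have h := supFun_inv (fun s => (ψ s)⁻¹) x
    simpa using h

@[simp] theorem sup2_super (ψ : K → Perm Z2) (s : K) (a b : ZMod p) :
    (sup2 ψ : Perm Pt) (Sum.inl (Sum.inl (s, a), b)) =
      Sum.inl (Sum.inl (s, (ψ s (a, b)).1), (ψ s (a, b)).2) := rfl

@[simp] theorem sup2_low (ψ : K → Perm Z2) (l : L) (b : ZMod p) :
    (sup2 ψ : Perm Pt) (Sum.inl (Sum.inr l, b)) = Sum.inl (Sum.inr l, b) := rfl

@[simp] theorem sup2_out (ψ : K → Perm Z2) (j : J) : (sup2 ψ : Perm Pt) (Sum.inr j) = Sum.inr j := rfl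

/-- `sup2` as a homomorphism. -/
def supHom : (K → Perm Z2) →* Perm Pt where
  toFun := sup2
  map_one' := by
    refine Equiv.ext fun x => ?_
    rcases x with ⟨(⟨s, a⟩ | l), b⟩ | j <;> simp
  map_mul' ψ ψ' := by
    refine Equiv.ext fun x => ?_
    rcases x with ⟨(⟨s, a⟩ | l), b⟩ | j <;> simp

/-- Translations on every super-block and every remaining block. -/
def rEl (v : K → Z2) (g : L → ZMod p) : Perm Pt :=
  gaff (gaff (1 : Perm K) 1 fun s => (v s).1) 1 (Sum.elim (fun x => (v x.1).2) g)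

@[simp] theorem rEl_super (v : K → Z2) (g : L → ZMod p) (s : K) (a b : ZMod p) :
    (rEl v g : Perm Pt) (Sum.inl (Sum.inl (s, a), b)) = Sum.inl (Sum.inl (s, a + (v s).1), b + (v s).2) := by
  simp [rEl]

@[simp] theorem rEl_low (v : K → Z2) (g : L → ZMod p) (l : L) (b : ZMod p) :
    (rEl v g : Perm Pt) (Sum.inl (Sum.inr l, b)) = Sum.inl (Sum.inr l, b + g l) := by
  simp [rEl]

@[simp] theorem rEl_out (v : K → Z2) (g : L → ZMod p) (j : J) : (rEl v g : Perm Pt) (Sum.inr j) = Sum.inr j :=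
  rfl

variable (p K L J) in
/-- The regular elementary abelian subgroup. -/
def Rs : Subgroup (Perm Pt) where
  carrier := {x | ∃ v g, x = rEl v g}
  one_mem' := ⟨0, 0, by
    refine Equiv.ext fun x => ?_
    rcases x with ⟨(⟨s, a⟩ | l), b⟩ | j <;> simp⟩
  mul_mem' := by
    rintro _ _ ⟨v, g, rfl⟩ ⟨v', g', rfl⟩
    refine ⟨v' + v, g' + g, Equiv.ext fun x => ?_⟩
    rcases x with ⟨(⟨s, a⟩ | l), b⟩ | j <;> simp [add_assoc]
  inv_mem' := by
    rintro _ ⟨v, g, rfl⟩
    refine ⟨-v, -g, inv_eq_of_mul_eq_one_right (Equiv.ext fun x => ?_)⟩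
    rcases x with ⟨(⟨s, a⟩ | l), b⟩ | j <;> simp

theorem sup2_rEl (ψ : K → Perm Z2) (hψ : ∀ s (x y : Z2), ψ s (x + y) = ψ s x + ψ s y) (v : K → Z2)
    (g : L → ZMod p) : (sup2 ψ : Perm Pt) * rEl v g = rEl (fun s => ψ s (v s)) g * sup2 ψ := by
  refine Equiv.ext fun x => ?_
  rcases x with ⟨(⟨s, a⟩ | l), b⟩ | j
  · simp only [Perm.mul_apply, rEl_super, sup2_super]
    rw [show ((a + (v s).1, b + (v s).2) : Z2) = (a, b) + v s from rfl, hψ]
    rfl
  · simp
  · rfl

/-- `(a, b) ↦ (a + x b, b)`. -/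
def shW (x : ZMod p) : Perm Z2 where
  toFun q := (q.1 + x * q.2, q.2)
  invFun q := (q.1 - x * q.2, q.2)
  left_inv q := by simp
  right_inv q := by simp

/-- `(a, b) ↦ (a, b + y a)`. -/
def shV (y : ZMod p) : Perm Z2 where
  toFun q := (q.1, q.2 + y * q.1)
  invFun q := (q.1, q.2 - y * q.1)
  left_inv q := by simp
  right_inv q := by simp

theorem shW_pow (x : ZMod p) (k : ℕ) : shW x ^ k = shW ((k : ZMod p) * x) := by
  induction k with
  | zero => refine Equiv.ext fun q => ?_; simp [shW]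
  | succ k ih =>
    rw [pow_succ, ih]
    refine Equiv.ext fun q => ?_
    simp [shW, Perm.mul_apply]
    ring

theorem shV_pow (y : ZMod p) (k : ℕ) : shV y ^ k = shV ((k : ZMod p) * y) := by
  induction k with
  | zero => refine Equiv.ext fun q => ?_; simp [shV]
  | succ k ih =>
    rw [pow_succ, ih]
    refine Equiv.ext fun q => ?_
    simp [shV, Perm.mul_apply]
    ring

theorem shW_pow_p (x : ZMod p) : shW x ^ p = 1 := by
  rw [shW_pow, ZMod.natCast_self, zero_mul]
  refine Equiv.ext fun q => ?_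
  simp [shW]

theorem shV_pow_p (y : ZMod p) : shV y ^ p = 1 := by
  rw [shV_pow, ZMod.natCast_self, zero_mul]
  refine Equiv.ext fun q => ?_
  simp [shV]

/-- `(a, b) ↦ (u a, u⁻¹ b)`. -/
def dg (u : (ZMod p)ˣ) : Perm Z2 where
  toFun q := ((u : ZMod p) * q.1, ((u⁻¹ : (ZMod p)ˣ) : ZMod p) * q.2)
  invFun q := (((u⁻¹ : (ZMod p)ˣ) : ZMod p) * q.1, (u : ZMod p) * q.2)
  left_inv q := by simp
  right_inv q := by simp

theorem dg_eq (u : (ZMod p)ˣ) :
    dg u = shW (u : ZMod p) * shV (-((u⁻¹ : (ZMod p)ˣ) : ZMod p)) * shW (u : ZMod p) *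
      shW (-1) * shV 1 * shW (-1) := by
  refine Equiv.ext fun q => ?_
  have h : (u : ZMod p) * ((u⁻¹ : (ZMod p)ˣ) : ZMod p) = 1 := by
    rw [← Units.val_mul, mul_inv_cancel, Units.val_one]
  obtain ⟨a, b⟩ := q
  simp only [dg, shW, shV, Perm.mul_apply, Equiv.coe_fn_mk, Prod.mk.injEq]
  constructor <;>
    first
      | linear_combination (0 : ZMod p) * h
      | linear_combination a * h
      | linear_combination b * h
      | linear_combination (2 * a) * h
      | linear_combination (2 * b) * h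
      | linear_combination -(2 * b) * h
      | linear_combination (b + (u : ZMod p) * a) * h
      | linear_combination -(b + (u : ZMod p) * a) * h
      | linear_combination ((u : ZMod p) * a - b) * h
      | linear_combination -((u : ZMod p) * a - b) * h

variable [DecidableEq K]

/-- The torus element supported on the super-blocks in `U`. -/
def g0 (U : Finset K) (u : (ZMod p)ˣ) : Perm Pt := sup2 fun s => if s ∈ U then dg u else 1

/-- The block permutation of `g0`. -/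
def sig0 (U : Finset K) (u : (ZMod p)ˣ) : Perm ((K × ZMod p) ⊕ L) :=
  gaff 1 (fun s => if s ∈ U then u else 1) 0

/-- The scalars of `g0`. -/
def t0 (U : Finset K) (u : (ZMod p)ˣ) : (K × ZMod p) ⊕ L → (ZMod p)ˣ :=
  Sum.elim (fun x => if x.1 ∈ U then u⁻¹ else 1) 1

theorem g0_eq_gaff (U : Finset K) (u : (ZMod p)ˣ) : (g0 U u : Perm Pt) = gaff (sig0 U u) (t0 U u) 0 := by
  refine Equiv.ext fun x => ?_
  rcases x with ⟨(⟨s, a⟩ | l), b⟩ | j
  · by_cases h : s ∈ U <;> simp [g0, sig0, t0, h, dg]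
  · simp [g0, sig0, t0]
  · simp [g0]

theorem g0_mem (U : Finset K) (u : (ZMod p)ˣ) (H : Subgroup (Perm Pt))
    (hH : ∀ x : Perm Pt, x ^ p = 1 → (∀ r ∈ Rs p K L J, x * r * x⁻¹ ∈ Rs p K L J) → x ∈ H) :
    (g0 U u : Perm Pt) ∈ H := by
  have key : ∀ φ : Perm Z2, φ ^ p = 1 → (∀ a b : Z2, φ (a + b) = φ a + φ b) →
      (sup2 (fun s => if s ∈ U then φ else 1) : Perm Pt) ∈ H := by
    intro φ hp hadd
    refine hH _ ?_ ?_
    · show (supHom (fun s => if s ∈ U then φ else 1) : Perm Pt) ^ p = 1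
      rw [← map_pow, show (fun s => if s ∈ U then φ else 1) ^ p = (1 : K → Perm Z2) from
        funext fun s => by by_cases h : s ∈ U <;> simp [h, hp], map_one]
    · rintro _ ⟨v, g, rfl⟩
      rw [sup2_rEl _ (fun s a b => by by_cases h : s ∈ U <;> simp [h, hadd]) v g, mul_inv_cancel_right]
      exact ⟨_, _, rfl⟩
  have hW : ∀ x : ZMod p, ∀ a b : Z2, shW x (a + b) = shW x a + shW x b := fun x a b => by
    simp [shW, mul_add, add_add_add_comm]
  have hV : ∀ x : ZMod p, ∀ a b : Z2, shV x (a + b) = shV x a + shV x b := fun x a b => by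
    simp [shV, mul_add, add_add_add_comm]
  have e : (fun s => if s ∈ U then dg u else 1) =
      (fun s => if s ∈ U then shW (u : ZMod p) else 1) *
      (fun s => if s ∈ U then shV (-((u⁻¹ : (ZMod p)ˣ) : ZMod p)) else 1) *
      (fun s => if s ∈ U then shW (u : ZMod p) else 1) *
      (fun s => if s ∈ U then shW (-1) else 1) *
      (fun s => if s ∈ U then shV 1 else 1) *
      (fun s => if s ∈ U then shW (-1) else (1 : Perm Z2)) := by
    funext s
    by_cases h : s ∈ U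
    · simp [h, dg_eq u]
    · simp [h]
  show (supHom (fun s => if s ∈ U then dg u else 1) : Perm Pt) ∈ H
  rw [e, map_mul, map_mul, map_mul, map_mul, map_mul]
  exact H.mul_mem (H.mul_mem (H.mul_mem (H.mul_mem (H.mul_mem (key _ (shW_pow_p _) (hW _))
    (key _ (shV_pow_p _) (hV _))) (key _ (shW_pow_p _) (hW _))) (key _ (shW_pow_p _) (hW _)))
    (key _ (shV_pow_p _) (hV _))) (key _ (shW_pow_p _) (hW _))

/-- `g0` normalises the doubly wreathed subgroup when `U` is invariant. -/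
theorem g0_conj (U : Finset K) (u : (ZMod p)ˣ) {P : Subgroup (Perm K)} (hU : ∀ π ∈ P, ∀ s, π s ∈ U ↔ s ∈ U)
    {x : Perm Pt} (hx : x ∈ wr (wr P : Subgroup (Perm ((K × ZMod p) ⊕ L)))) :
    (g0 U u : Perm Pt) * x * (g0 U u)⁻¹ ∈ wr (wr P : Subgroup (Perm ((K × ZMod p) ⊕ L))) := by
  obtain ⟨σ, ⟨π, hπ, h, rfl⟩, f, rfl⟩ := hx
  have he : ∃ h' : K → ZMod p, (sig0 U u : Perm ((K × ZMod p) ⊕ L)) * gaff π 1 h * (sig0 U u)⁻¹ = gaff π 1 h' := by
    refine ⟨fun s => ((if π s ∈ U then u else 1 : (ZMod p)ˣ) : ZMod p) * h s, mul_inv_eq_of_eq_mul ?_⟩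
    rw [sig0, gaff_mul, gaff_mul]
    congr 1
    · funext s
      by_cases hs : s ∈ U <;> simp [hs, hU π hπ s]
    · funext s; by_cases hs : π s ∈ U <;> simp [hs]
  obtain ⟨h', e⟩ := he
  refine ⟨gaff π 1 h', ⟨π, hπ, h', rfl⟩,
    fun i => (t0 U u ((gaff π 1 h : Perm ((K × ZMod p) ⊕ L)) ((sig0 U u)⁻¹ i)) : ZMod p) *
      f ((sig0 U u)⁻¹ i), mul_inv_eq_of_eq_mul ?_⟩
  rw [g0_eq_gaff, gaff_mul, gaff_mul]
  congr 1
  · rw [← e, inv_mul_cancel_right]
  · funext i
    rcases i with ⟨s, a⟩ | l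
    · by_cases hs : s ∈ U <;> simp [t0, hs, hU π hπ s]
    · simp [t0]
  · funext i
    simp

theorem prod_t0 [Fintype K] [Fintype L] [DecidableEq L] (U : Finset K) (u : (ZMod p)ˣ) :
    ∏ i, (t0 U u : (K × ZMod p) ⊕ L → (ZMod p)ˣ) i = (u⁻¹) ^ (U.card * p) := by
  rw [Fintype.prod_sum_type, Fintype.prod_prod_type]
  simp only [t0, Sum.elim_inl, Sum.elim_inr, Pi.one_apply, Finset.prod_const_one, mul_one,
    Finset.prod_const, Finset.card_univ, ZMod.card]
  rw [Finset.prod_congr rfl fun x _ => show (∏ _y : ZMod p, if x ∈ U then u⁻¹ else (1 : (ZMod p)ˣ)) =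
    (if x ∈ U then u⁻¹ else 1) ^ p by rw [Finset.prod_const, Finset.card_univ, ZMod.card],
    Finset.prod_pow, Finset.prod_ite_mem, Finset.univ_inter, Finset.prod_const, ← pow_mul]

omit [DecidableEq K] in
theorem mem_Rs_of_commute [Subsingleton J] {m : Perm Pt}
    (hm : ∀ r ∈ Rs p K L J, m * r = r * m) : m ∈ Rs p K L J := by
  classical
  have hc : ∀ v g x, m ((rEl v g : Perm Pt) x) = (rEl v g : Perm Pt) (m x) := fun v g x =>
    congrArg (fun e : Perm Pt => e x) (hm _ ⟨v, g, rfl⟩)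
  have hs : ∀ s, ∃ q : Z2, m (Sum.inl (Sum.inl (s, 0), 0)) = Sum.inl (Sum.inl (s, q.1), q.2) := by
    intro s
    rcases hy : m (Sum.inl (Sum.inl (s, 0), 0)) with ⟨(⟨s', a⟩ | l), b⟩ | j
    · by_cases hss : s' = s
      · exact ⟨(a, b), by rw [hss]⟩
      · exfalso
        have h := hc (Pi.single s' (1, 0)) 0 (Sum.inl (Sum.inl (s, 0), 0))
        simp [hy, Pi.single_eq_of_ne (Ne.symm hss)] at h
    · exfalso
      have h := hc 0 (Pi.single l 1) (Sum.inl (Sum.inl (s, 0), 0))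
      simp [hy] at h
    · exfalso
      have h := hc (Pi.single s (1, 0)) 0 (Sum.inl (Sum.inl (s, 0), 0))
      rw [hy, rEl_out, ← hy] at h
      have h' := m.injective h
      simp at h'
  have hl : ∀ l, ∃ c : ZMod p, m (Sum.inl (Sum.inr l, 0)) = Sum.inl (Sum.inr l, c) := by
    intro l
    rcases hy : m (Sum.inl (Sum.inr l, 0)) with ⟨(⟨s', a⟩ | l'), b⟩ | j
    · exfalso
      have h := hc (Pi.single s' (1, 0)) 0 (Sum.inl (Sum.inr l, 0))
      simp [hy] at h
    · by_cases hll : l' = l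
      · exact ⟨b, by rw [hll]⟩
      · exfalso
        have h := hc 0 (Pi.single l' 1) (Sum.inl (Sum.inr l, 0))
        simp [hy, Pi.single_eq_of_ne (Ne.symm hll)] at h
    · exfalso
      have h := hc 0 (Pi.single l 1) (Sum.inl (Sum.inr l, 0))
      rw [hy, rEl_out, ← hy] at h
      have h' := m.injective h
      simp at h'
  choose q hq using hs
  choose c hcl using hl
  refine ⟨q, c, Equiv.ext fun x => ?_⟩
  rcases x with ⟨(⟨s, a⟩ | l), b⟩ | j
  · have h := hc (Pi.single s (a, b)) 0 (Sum.inl (Sum.inl (s, 0), 0))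
    simp [hq] at h
    rw [rEl_super, h, add_comm a, add_comm b]
  · have h := hc 0 (Pi.single l b) (Sum.inl (Sum.inr l, 0))
    simp [hcl] at h
    rw [rEl_low, h, add_comm b]
  · rw [rEl_out]
    rcases hy : m (Sum.inr j) with ⟨(⟨s, a⟩ | l), b⟩ | j'
    · exfalso
      have h := hc (Pi.single s (1, 0)) 0 (Sum.inr j)
      simp [hy] at h
    · exfalso
      have h := hc 0 (Pi.single l 1) (Sum.inr j)
      simp [hy] at h
    · rw [Subsingleton.elim j' j]

end Cfsg.Agent.AltFus
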