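import Cfsg.Agent.GroupSub.AffWreath

/-!
The normaliser of the block translations in a symmetric group: its elements are block-affine, and modulo the
subgroup generated by its `p`-elements its even part is generated by one element.
-/

set_option autoImplicit false

namespace Cfsg.Agent.AltFus

open Equiv GroupSub.AffWreath

variable {p : ℕ} [Fact p.Prime] {I J : Type*} [Fintype I] [DecidableEq I] [Fintype J] [DecidableEq J]

local notation "Pt" => ((I × ZMod p) ⊕ J)

theorem card_support_tr (f : I → ZMod p) :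
    (tr f : Perm Pt).support.card = (Finset.univ.filter fun i => f i ≠ 0).card * p := by
  have h : (tr f : Perm Pt).support =
      ((Finset.univ.filter fun i => f i ≠ 0) ×ˢ (Finset.univ : Finset (ZMod p))).map
        ⟨Sum.inl, Sum.inl_injective⟩ := by
    ext x
    rcases x with ⟨i, b⟩ | j
    · simp [tr, Perm.mem_support]
    · simp [tr, Perm.mem_support]
  rw [h, Finset.card_map, Finset.card_product, Finset.card_univ, ZMod.card]

theorem card_support_ge {σ : Perm I} {i : I} (h : σ i ≠ i) (t : I → (ZMod p)ˣ) (f : I → ZMod p) :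
    2 * p ≤ (gaff σ t f : Perm Pt).support.card := by
  have hne : σ (σ i) ≠ σ i := fun e => h (σ.injective e)
  have hsub : (({i, σ i} : Finset I) ×ˢ (Finset.univ : Finset (ZMod p))).map ⟨Sum.inl, Sum.inl_injective⟩ ⊆
      (gaff σ t f : Perm Pt).support := by
    intro x hx
    rw [Finset.mem_map] at hx
    obtain ⟨⟨k, b⟩, hk, rfl⟩ := hx
    rw [Finset.mem_product, Finset.mem_insert, Finset.mem_singleton] at hk
    rw [Perm.mem_support]
    show (gaff σ t f : Perm Pt) (Sum.inl (k, b)) ≠ _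
    rw [gaff_inl]
    intro e
    have e' : σ k = k := congrArg Prod.fst (Sum.inl_injective e)
    rcases hk.1 with rfl | rfl
    · exact h e'
    · exact hne e'
  refine le_trans (le_of_eq ?_) (Finset.card_le_card hsub)
  rw [Finset.card_map, Finset.card_product, Finset.card_univ, ZMod.card, Finset.card_pair h.symm]

/-- The unit translation on one block. -/
def single (i : I) : I → ZMod p := Pi.single i 1

theorem card_support_single (i : I) : (tr (single i) : Perm Pt).support.card = p := by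
  rw [card_support_tr, show (Finset.univ.filter fun k => single (p := p) i k ≠ 0) = {i} by
    ext k; simp [single, Pi.single_apply], Finset.card_singleton, one_mul]

/-- A conjugate of a one-block translation which is block-affine with trivial scalars is such a translation. -/
theorem eq_single_of_conj {g : Perm Pt} {i : I} {σ : Perm I} {f : I → ZMod p}
    (h : g * tr (single i) * g⁻¹ = gaff σ 1 f) :
    ∃ i' : I, ∃ c : (ZMod p)ˣ, g * tr (single i) * g⁻¹ = tr (Pi.single i' (c : ZMod p)) := by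
  have hp := (Fact.out : p.Prime).pos
  have hc : (gaff σ 1 f : Perm Pt).support.card = p := by
    rw [← h, Perm.card_support_conj, card_support_single]
  have hσ : σ = 1 := by
    refine Equiv.ext fun k => by_contra fun hk => ?_
    have := card_support_ge (J := J) (show σ k ≠ k from hk) 1 f
    omega
  subst hσ
  rw [show (gaff 1 1 f : Perm Pt) = tr f from rfl] at h hc
  rw [card_support_tr] at hc
  obtain ⟨i', hi'⟩ := Finset.card_eq_one.1 (Nat.eq_of_mul_eq_mul_right hp (hc.trans (one_mul p).symm))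
  have hf : f i' ≠ 0 := by
    have : i' ∈ (Finset.univ.filter fun k => f k ≠ 0) := by rw [hi']; exact Finset.mem_singleton_self i'
    exact (Finset.mem_filter.1 this).2
  refine ⟨i', Units.mk0 _ hf, ?_⟩
  rw [h]
  congr 1
  funext k
  by_cases hk : k = i'
  · subst hk; simp
  · rw [Pi.single_eq_of_ne hk]
    by_contra hne
    have : k ∈ ({i'} : Finset I) := hi' ▸ Finset.mem_filter.2 ⟨Finset.mem_univ k, hne⟩
    exact hk (Finset.mem_singleton.1 this)

/-- A permutation carrying the one-block translations into block-affine ones is block-affine. -/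
theorem exists_gaff [Subsingleton J] (g : Perm Pt)
    (hg : ∀ i, ∃ σ : Perm I, ∃ f : I → ZMod p, g * tr (single i) * g⁻¹ = gaff σ 1 f) :
    ∃ σ t f, g = gaff σ t f := by
  have h1 : ∀ i, ∃ i' : I, ∃ c : (ZMod p)ˣ, g * tr (single i) * g⁻¹ = tr (Pi.single i' (c : ZMod p)) :=
    fun i => by
    obtain ⟨σ, f, h⟩ := hg i
    exact eq_single_of_conj h
  choose s c hs using h1
  have hsinj : Function.Injective s := by
    intro i k hik
    by_contra hne
    set r := ((c i : ZMod p) / (c k : ZMod p)).val with hr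
    have hr' : (r : ZMod p) = (c i : ZMod p) / (c k : ZMod p) := ZMod.natCast_zmod_val _
    have e : g * (tr (single k) : Perm Pt) ^ r * g⁻¹ = g * tr (single i) * g⁻¹ := by
      rw [← conj_pow, hs k, hs i, tr_pow]
      congr 1
      funext l
      rw [hik]
      by_cases hl : l = s k
      · subst hl
        simp [hr', div_mul_cancel₀ _ (c k).ne_zero]
      · simp [Pi.single_eq_of_ne hl]
    have e' := mul_left_cancel (mul_right_cancel e)
    rw [tr_pow] at e'
    obtain ⟨-, -, e''⟩ := gaff_inj (J := J) e'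
    have := congrFun e'' i
    simp [single, Pi.single_eq_of_ne hne] at this
  let σ : Perm I := Equiv.ofBijective s (Finite.injective_iff_bijective.1 hsinj)
  have hmv : ∀ i x, g ((tr (single i) : Perm Pt) x) = (tr (Pi.single (s i) (c i : ZMod p)) : Perm Pt) (g x) := by
    intro i x
    rw [← hs i]
    simp [Perm.mul_apply]
  have hinr : ∀ j : J, g (Sum.inr j) = Sum.inr j := by
    intro j
    rcases hy : g (Sum.inr j) with ⟨l, b⟩ | j'
    · exfalso
      obtain ⟨i, rfl⟩ := σ.surjective l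
      have h := hmv i (Sum.inr j)
      rw [hy, show (tr (single i) : Perm Pt) (Sum.inr j) = Sum.inr j from rfl, hy] at h
      simp [tr, σ] at h
    · rw [Subsingleton.elim j' j]
  have hzero : ∀ i, ∃ f : ZMod p, g (Sum.inl (i, 0)) = Sum.inl (s i, f) := by
    intro i
    have hne : (tr (single i) : Perm Pt) (Sum.inl (i, 0)) ≠ Sum.inl (i, 0) := by simp [tr, single]
    rcases hy : g (Sum.inl (i, 0)) with ⟨l, b⟩ | j'
    · refine ⟨b, ?_⟩
      by_cases hl : l = s i
      · rw [hl]
      · exfalso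
        refine hne (g.injective ?_)
        rw [hmv, hy]
        simp [tr, Pi.single_eq_of_ne hl]
    · exfalso
      refine hne (g.injective ?_)
      rw [hmv, hy]
      rfl
  choose f hf using hzero
  refine ⟨σ, c, f, Equiv.ext fun x => ?_⟩
  rcases x with ⟨i, b⟩ | j
  · rw [gaff_inl]
    show g (Sum.inl (i, b)) = Sum.inl (s i, (c i : ZMod p) * b + f i)
    have hb : (tr (single i) : Perm Pt) ^ b.val = tr (Pi.single i b) := by
      rw [tr_pow]
      congr 1
      funext l
      by_cases hl : l = i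
      · subst hl; simp [single]
      · simp [single, Pi.single_eq_of_ne hl]
    have hpt : (Sum.inl (i, b) : Pt) = ((tr (single i) : Perm Pt) ^ b.val) (Sum.inl (i, 0)) := by
      rw [hb]; simp [tr]
    have e : g * (tr (single i) : Perm Pt) ^ b.val * g⁻¹ = tr (Pi.single (s i) (b * (c i : ZMod p))) := by
      rw [← conj_pow, hs i, tr_pow]
      congr 1
      funext l
      by_cases hl : l = s i
      · subst hl; simp
      · simp [Pi.single_eq_of_ne hl]
    rw [hpt, ← Perm.mul_apply, show g * (tr (single i) : Perm Pt) ^ b.val =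
      g * (tr (single i) : Perm Pt) ^ b.val * g⁻¹ * g by group, Perm.mul_apply, e, hf]
    simp [tr]
    ring
  · rw [hinr, gaff_inr]

variable (p I J) in
/-- The subgroup generated by the `p`-elements of the block-affine group. -/
def Kp : Subgroup (Perm Pt) :=
  Subgroup.closure {x | (∃ σ t f, x = gaff σ t f) ∧ ∃ k : ℕ, x ^ p ^ k = 1}

theorem Kp_conj {g : Perm Pt} (hg : ∃ σ t f, g = gaff σ t f) {x : Perm Pt} (hx : x ∈ Kp p I J) :
    g * x * g⁻¹ ∈ Kp p I J := by
  have h : Kp p I J ≤ (Kp p I J).comap (MulAut.conj g).toMonoidHom := by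
    refine (Subgroup.closure_le _).2 ?_
    rintro y ⟨⟨σ', t', f', rfl⟩, k, hk⟩
    obtain ⟨σ, t, f, rfl⟩ := hg
    refine Subgroup.subset_closure ⟨?_, k, ?_⟩
    · show ∃ a b c, gaff σ t f * gaff σ' t' f' * (gaff σ t f)⁻¹ = gaff a b c
      rw [gaff_mul, gaff_inv, gaff_mul]
      exact ⟨_, _, _, rfl⟩
    · rw [← map_pow, hk, map_one]
  exact h hx

theorem tr_mem_Kp (f : I → ZMod p) : (tr f : Perm Pt) ∈ Kp p I J :=
  Subgroup.subset_closure ⟨⟨_, _, _, rfl⟩, 1, by rw [pow_one, tr_pow_p]⟩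

omit [Fintype J] [DecidableEq J] in
theorem alternating_le_order_p (hodd : Odd p) (hI : p ≤ Fintype.card I) :
    alternatingGroup I ≤ Subgroup.closure {σ : Perm I | σ ^ p = 1} := by
  have hpp := (Fact.out : p.Prime)
  have hp3 : 3 ≤ p := by
    rcases hodd with ⟨k, hk⟩
    have := hpp.two_le
    omega
  obtain ⟨e⟩ : Nonempty (ZMod p ↪ I) := Function.Embedding.nonempty_of_card_le (by rw [ZMod.card]; exact hI)
  set c : Perm I := Equiv.Perm.viaEmbedding (Equiv.addRight (1 : ZMod p)) e with hc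
  have hcapp : ∀ a : ZMod p, c (e a) = e (a + 1) := fun a => Equiv.Perm.viaEmbedding_apply _ _ _
  have hcp : c ^ p = 1 := by
    rw [hc, ← Equiv.Perm.viaEmbeddingHom_apply, ← map_pow]
    rw [show (Equiv.addRight (1 : ZMod p)) ^ p = 1 from Equiv.ext fun a => by
      have h : ∀ k : ℕ, ((Equiv.addRight (1 : ZMod p)) ^ k) a = a + k := fun k => by
        induction k with
        | zero => simp
        | succ k ih => rw [pow_succ', Perm.mul_apply, ih]; simp [add_assoc]
      rw [h, ZMod.natCast_self, add_zero]; rfl, map_one]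
  set H := Subgroup.closure {σ : Perm I | σ ^ p = 1} with hH
  have hconj : ∀ g : Perm I, ∀ x ∈ H, g * x * g⁻¹ ∈ H := by
    intro g x hx
    have h : H ≤ H.comap (MulAut.conj g).toMonoidHom := (Subgroup.closure_le _).2 fun y hy => by
      refine Subgroup.subset_closure ?_
      show (MulAut.conj g).toMonoidHom y ^ p = 1
      rw [← map_pow, show y ^ p = 1 from hy, map_one]
    exact h hx
  have hcH : c ∈ H := Subgroup.subset_closure hcp
  have h01 : e 0 ≠ e 1 := fun h => zero_ne_one (e.injective h)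
  have h12 : e 1 ≠ e (1 + 1) := fun h => one_ne_zero (α := ZMod p) (by linear_combination -(e.injective h))
  have h02 : e (1 + 1) ≠ e 0 := fun h => by
    have h' := e.injective h
    rw [one_add_one_eq_two] at h'
    have h2 : ((2 : ℕ) : ZMod p) = 0 := by exact_mod_cast h'
    rw [ZMod.natCast_eq_zero_iff] at h2
    have := Nat.le_of_dvd two_pos h2
    omega
  set τ := Equiv.swap (e 0) (e 1) with hτ
  have hmem : c * (τ * c⁻¹ * τ⁻¹) ∈ H := H.mul_mem hcH (hconj τ _ (H.inv_mem hcH))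
  have heq : c * (τ * c⁻¹ * τ⁻¹) = Equiv.swap (e 1) (e (1 + 1)) * Equiv.swap (e 1) (e 0) := by
    have h1 : c * τ * c⁻¹ = Equiv.swap (c (e 0)) (c (e 1)) := by
      rw [hτ, Equiv.swap_apply_apply]
    rw [hcapp, hcapp, zero_add] at h1
    rw [show c * (τ * c⁻¹ * τ⁻¹) = c * τ * c⁻¹ * τ⁻¹ by group, h1, hτ, Equiv.swap_inv,
      Equiv.swap_comm (e 0) (e 1)]
  rw [heq] at hmem
  have h3 := Equiv.Perm.isThreeCycle_swap_mul_swap_same h12 h01.symm h02
  rw [← Equiv.Perm.closure_three_cycles_eq_alternating, Subgroup.closure_le]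
  intro σ hσ
  obtain ⟨g, hg⟩ := isConj_iff.1 (Equiv.Perm.isConj_iff_cycleType_eq.2
    (show (Equiv.swap (e 1) (e (1 + 1)) * Equiv.swap (e 1) (e 0)).cycleType = σ.cycleType by
      rw [h3, show σ.cycleType = {3} from hσ]))
  rw [← hg]
  exact hconj g _ hmem

theorem bp_mem_Kp (hodd : Odd p) (hI : p ≤ Fintype.card I) {σ : Perm I} (hσ : Perm.sign σ = 1) :
    (bp σ : Perm Pt) ∈ Kp p I J := by
  have h : alternatingGroup I ≤ (Kp p I J).comap bpHom := by
    refine (alternating_le_order_p hodd hI).trans ((Subgroup.closure_le _).2 fun x hx => ?_)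
    refine Subgroup.subset_closure ⟨⟨_, _, _, rfl⟩, 1, ?_⟩
    rw [pow_one, ← map_pow, show x ^ p = 1 from hx, map_one]
  exact h (Perm.mem_alternatingGroup.2 hσ)

omit [Fintype I] [DecidableEq I] [Fintype J] [DecidableEq J] in
theorem dil_mul (t t' : I → (ZMod p)ˣ) : (dil t : Perm Pt) * dil t' = dil (t * t') := by
  rw [dil, dil, dil, gaff_mul]
  congr 1
  all_goals funext k; simp

omit [Fintype I] [DecidableEq I] [Fintype J] [DecidableEq J] in
theorem dil_one : (dil (1 : I → (ZMod p)ˣ) : Perm Pt) = 1 := gaff_one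

omit [Fintype I] [DecidableEq I] [Fintype J] [DecidableEq J] in
theorem dil_inv (t : I → (ZMod p)ˣ) : (dil t : Perm Pt)⁻¹ = dil t⁻¹ :=
  inv_eq_of_mul_eq_one_right (by rw [dil_mul, mul_inv_cancel, dil_one])

omit [Fintype I] [DecidableEq I] [Fintype J] [DecidableEq J] in
theorem bp_dil (σ : Perm I) (t : I → (ZMod p)ˣ) :
    (bp σ : Perm Pt) * dil t * (bp σ)⁻¹ = dil (fun i => t (σ⁻¹ i)) := by
  refine mul_inv_eq_of_eq_mul ?_
  rw [bp, dil, dil, gaff_mul, gaff_mul]
  congr 1
  · funext k; simp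
  · funext k; simp

theorem dil_pair_mem (hodd : Odd p) (hI : p ≤ Fintype.card I) (i j : I) (u : (ZMod p)ˣ) :
    (dil (Pi.mulSingle i u * Pi.mulSingle j u⁻¹) : Perm Pt) ∈ Kp p I J := by
  by_cases hij : i = j
  · subst hij
    rw [← Pi.mulSingle_mul, mul_inv_cancel, Pi.mulSingle_one]
    show (gaff 1 1 0 : Perm Pt) ∈ _
    rw [gaff_one]; exact Subgroup.one_mem _
  obtain ⟨l, -, hl⟩ : ∃ l ∈ (Finset.univ : Finset I), l ∉ ({i, j} : Finset I) := by
    refine Finset.exists_mem_notMem_of_card_lt_card ?_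
    rw [Finset.card_univ]
    refine lt_of_le_of_lt Finset.card_le_two (lt_of_lt_of_le ?_ hI)
    rcases hodd with ⟨k, hk⟩
    have := (Fact.out : p.Prime).two_le
    omega
  simp only [Finset.mem_insert, Finset.mem_singleton, not_or] at hl
  set σ := Equiv.swap i j * Equiv.swap j l with hσ
  have hσs : Perm.sign σ = 1 := by
    rw [hσ, Perm.sign_mul, Perm.sign_swap hij, Perm.sign_swap (Ne.symm hl.2)]; rfl
  have hσi : σ i = j := by
    rw [hσ, Perm.mul_apply, Equiv.swap_apply_of_ne_of_ne hij (Ne.symm hl.1), Equiv.swap_apply_left]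
  have hb := bp_mem_Kp (J := J) hodd hI hσs
  have hm := (Kp p I J).mul_mem (Kp_conj (g := dil (Pi.mulSingle i u)) ⟨_, _, _, rfl⟩ hb) ((Kp p I J).inv_mem hb)
  rw [show (dil (Pi.mulSingle i u) : Perm Pt) * bp σ * (dil (Pi.mulSingle i u))⁻¹ * (bp σ)⁻¹ =
    dil (Pi.mulSingle i u) * (bp σ * (dil (Pi.mulSingle i u))⁻¹ * (bp σ)⁻¹) by group, dil_inv, bp_dil,
    dil_mul] at hm
  convert hm using 2
  funext k
  simp only [Pi.mul_apply, Pi.inv_apply]
  congr 1
  by_cases hk : k = j
  · subst hk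
    rw [Pi.mulSingle_eq_same, show σ⁻¹ k = i by rw [← hσi, Perm.inv_def, Equiv.symm_apply_apply],
      Pi.mulSingle_eq_same]
  · rw [Pi.mulSingle_eq_of_ne hk, Pi.mulSingle_eq_of_ne, inv_one]
    intro e
    exact hk (by rw [← hσi, ← e, Perm.inv_def, Equiv.apply_symm_apply])

theorem dil_mem_Kp (hodd : Odd p) (hI : p ≤ Fintype.card I) {t : I → (ZMod p)ˣ} (ht : ∏ i, t i = 1) :
    (dil t : Perm Pt) ∈ Kp p I J := by
  obtain ⟨i₀⟩ : Nonempty I := Fintype.card_pos_iff.1 (lt_of_lt_of_le (Fact.out : p.Prime).pos hI)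
  let D : Subgroup (I → (ZMod p)ˣ) :=
    { carrier := {t | (dil t : Perm Pt) ∈ Kp p I J}
      one_mem' := by
        show (dil (1 : I → (ZMod p)ˣ) : Perm Pt) ∈ Kp p I J
        rw [dil_one]; exact Subgroup.one_mem _
      mul_mem' := fun {a b} ha hb => by
        show (dil (a * b) : Perm Pt) ∈ Kp p I J
        rw [← dil_mul]; exact (Kp p I J).mul_mem ha hb
      inv_mem' := fun {a} ha => by
        show (dil a⁻¹ : Perm Pt) ∈ Kp p I J
        rw [← dil_inv]; exact (Kp p I J).inv_mem ha }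
  have hmem : ∏ i, (Pi.mulSingle i (t i) * Pi.mulSingle i₀ (t i)⁻¹ : I → (ZMod p)ˣ) ∈ D :=
    Subgroup.prod_mem _ fun i _ => dil_pair_mem hodd hI i i₀ (t i)
  have e : ∏ i, (Pi.mulSingle i (t i) * Pi.mulSingle i₀ (t i)⁻¹ : I → (ZMod p)ˣ) = t := by
    rw [Finset.prod_mul_distrib, Finset.univ_prod_mulSingle]
    funext k
    rw [Pi.mul_apply, Finset.prod_apply]
    by_cases hk : k = i₀
    · subst hk
      simp only [Pi.mulSingle_eq_same, Finset.prod_inv_distrib, ht, inv_one, mul_one]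
    · simp [Pi.mulSingle_eq_of_ne hk]
  rw [e] at hmem
  exact hmem

theorem sign_of_mem_Kp (hodd : Odd p) {x : Perm Pt} (hx : x ∈ Kp p I J) : Perm.sign x = 1 := by
  have h : Kp p I J ≤ (Perm.sign : Perm Pt →* ℤˣ).ker := by
    refine (Subgroup.closure_le _).2 ?_
    rintro y ⟨-, k, hk⟩
    exact sign_of_pow hodd hk
  exact h hx

theorem mem_Kp_of_prod_one (hodd : Odd p) (hI : p ≤ Fintype.card I) {σ : Perm I} {t : I → (ZMod p)ˣ}
    {f : I → ZMod p} (hs : Perm.sign (gaff σ t f : Perm Pt) = 1) (ht : ∏ i, t i = 1) :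
    (gaff σ t f : Perm Pt) ∈ Kp p I J := by
  have hd : (dil (fun i => t (σ⁻¹ i)) : Perm Pt) ∈ Kp p I J := by
    refine dil_mem_Kp hodd hI ?_
    rw [Equiv.prod_comp σ⁻¹ t, ht]
  rw [gaff_eq_dil] at hs ⊢
  refine (Kp p I J).mul_mem ((Kp p I J).mul_mem hd (bp_mem_Kp hodd hI ?_)) (tr_mem_Kp _)
  rw [map_mul, map_mul, sign_of_mem_Kp hodd hd, sign_of_mem_Kp hodd (tr_mem_Kp _), one_mul, mul_one,
    sign_bp] at hs
  obtain ⟨k, hk⟩ := hodd
  rwa [hk, pow_succ, pow_mul, Int.units_sq, one_pow, one_mul] at hs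

theorem mem_sup_of_generator (hodd : Odd p) (hI : p ≤ Fintype.card I) {σ₀ : Perm I} {t₀ : I → (ZMod p)ˣ}
    {f₀ : I → ZMod p} (hs₀ : Perm.sign (gaff σ₀ t₀ f₀ : Perm Pt) = 1)
    (hgen : ∀ d : (ZMod p)ˣ, d ∈ Subgroup.zpowers (∏ i, t₀ i)) {σ : Perm I} {t : I → (ZMod p)ˣ}
    {f : I → ZMod p} (hs : Perm.sign (gaff σ t f : Perm Pt) = 1) :
    (gaff σ t f : Perm Pt) ∈ Kp p I J ⊔ Subgroup.zpowers (gaff σ₀ t₀ f₀) := by
  obtain ⟨k, hk⟩ : ∃ k : ℕ, (∏ i, t₀ i) ^ k = ∏ i, t i :=
    Submonoid.mem_powers_iff _ _ |>.1 (mem_powers_iff_mem_zpowers.2 (hgen _))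
  have hpow : ∀ k : ℕ, ∃ σ' t' f', (gaff σ₀ t₀ f₀ : Perm Pt) ^ k = gaff σ' t' f' ∧
      ∏ i, t' i = (∏ i, t₀ i) ^ k := by
    intro k
    induction k with
    | zero => exact ⟨1, 1, 0, by rw [pow_zero, gaff_one], by simp⟩
    | succ k ih =>
      obtain ⟨σ', t', f', e, ht'⟩ := ih
      refine ⟨_, _, _, by rw [pow_succ, e, gaff_mul], ?_⟩
      rw [Finset.prod_mul_distrib, Equiv.prod_comp σ₀ t', ht', pow_succ]
  obtain ⟨σ', t', f', e, ht'⟩ := hpow k
  have key : (gaff σ t f : Perm Pt) * ((gaff σ₀ t₀ f₀ : Perm Pt) ^ k)⁻¹ ∈ Kp p I J := by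
    have hs2 : Perm.sign ((gaff σ t f : Perm Pt) * ((gaff σ₀ t₀ f₀ : Perm Pt) ^ k)⁻¹) = 1 := by
      rw [map_mul, map_inv, map_pow, hs, hs₀, one_pow, inv_one, one_mul]
    rw [e, gaff_inv, gaff_mul] at hs2 ⊢
    refine mem_Kp_of_prod_one hodd hI hs2 ?_
    rw [Finset.prod_mul_distrib, Equiv.prod_comp σ'⁻¹ t, Finset.prod_inv_distrib, Equiv.prod_comp σ'⁻¹ t',
      ht', hk, mul_inv_cancel]
  have hmem := Subgroup.mul_mem_sup key
    (Subgroup.pow_mem (Subgroup.zpowers (gaff σ₀ t₀ f₀ : Perm Pt)) (Subgroup.mem_zpowers _) k)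
  rwa [inv_mul_cancel_right] at hmem

end Cfsg.Agent.AltFus
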